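import Groth.Agent.DetLen.General
import Groth.Agent.CycAlgLib.Herbrand
import Groth.Prelude.Def_Tame

/-! # Distances between lattices -/

noncomputable section
universe u v w

set_option autoImplicit false
set_option linter.style.haveILetI false

open Matrix
open Groth.Agent.CycAlgLib (Sq length_sq_add)

namespace Groth.Agent.DetLen

variable {A : Type u} [CommRing A]

theorem ordFrac_algebraMap [IsDomain A] [IsNoetherianRing A] [Ring.KrullDimLE 1 A] (K : Type v) [Field K]
    [Algebra A K] [IsFractionRing A K] {a : A} (ha : a ≠ 0) :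
    CycAlg.ordFrac A K (algebraMap A K a) = ((Ring.ord A a).toNat : ℤ) := by
  classical
  unfold CycAlg.ordFrac
  rw [dif_pos ⟨inferInstance, inferInstance, inferInstance, inferInstance⟩]
  have hz : a ∈ nonZeroDivisors A := mem_nonZeroDivisors_of_ne_zero ha
  obtain ⟨n, hn⟩ := ENat.ne_top_iff_exists.mp (Ring.ord_ne_top hz)
  rw [Ring.ordFrac_eq_ord A ha, Ring.ordMonoidWithZeroHom_eq_coe A hz hn.symm, ← hn]
  rfl

theorem ordFrac_mul [IsDomain A] [IsNoetherianRing A] [Ring.KrullDimLE 1 A] (K : Type v) [Field K]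
    [Algebra A K] [IsFractionRing A K] {x y : K} (hx : x ≠ 0) (hy : y ≠ 0) :
    CycAlg.ordFrac A K (x * y) = CycAlg.ordFrac A K x + CycAlg.ordFrac A K y := by
  classical
  unfold CycAlg.ordFrac
  simp only [dif_pos (⟨inferInstance, inferInstance, inferInstance, inferInstance⟩ :
    IsNoetherianRing A ∧ Ring.KrullDimLE 1 A ∧ Nontrivial A ∧ IsFractionRing A K), map_mul]
  obtain ⟨p, hp⟩ := WithZero.ne_zero_iff_exists.mp ((map_ne_zero (Ring.ordFrac A (K := K))).mpr hx)
  obtain ⟨q, hq⟩ := WithZero.ne_zero_iff_exists.mp ((map_ne_zero (Ring.ordFrac A (K := K))).mpr hy)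
  rw [← hp, ← hq, ← WithZero.coe_mul]
  rfl

theorem isFiniteLength_of_smul_eq_zero [IsDomain A] [IsNoetherianRing A] [Ring.KrullDimLE 1 A]
    {N : Type v} [AddCommGroup N] [Module A N] [Module.Finite A N] {a : A} (ha : a ≠ 0)
    (h : ∀ x : N, a • x = 0) : Module.length A N < ⊤ := by
  obtain ⟨k, s, hs⟩ := Module.Finite.exists_fin (R := A) (M := N)
  let φ : (Fin k → A ⧸ Ideal.span {a}) →ₗ[A] N :=
    (Submodule.liftQ (Ideal.span {a} : Submodule A A) (LinearMap.toSpanSingleton A (Module.End A N) LinearMap.id) (by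
      intro x hx
      obtain ⟨b, rfl⟩ := Ideal.mem_span_singleton'.mp hx
      rw [LinearMap.mem_ker]
      refine LinearMap.ext fun y => ?_
      simp [mul_smul, h])) |> fun L => ∑ i, (L.flip (s i)) ∘ₗ LinearMap.proj i
  have hφ : Function.Surjective φ := by
    rw [← LinearMap.range_eq_top, eq_top_iff, ← hs, Submodule.span_le]
    rintro - ⟨i, rfl⟩
    refine ⟨Pi.single i 1, ?_⟩
    simp only [φ, LinearMap.coe_sum, Finset.sum_apply, LinearMap.comp_apply, LinearMap.proj_apply, LinearMap.flip_apply]
    rw [Finset.sum_eq_single i (fun j _ hj => by simp [hj]) (by simp)]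
    rw [Pi.single_eq_same, show (1 : A ⧸ Ideal.span {a}) = Submodule.Quotient.mk 1 from rfl, Submodule.liftQ_apply]
    simp
  refine (Module.length_le_of_surjective φ hφ).trans_lt ?_
  rw [Module.length_pi_of_fintype]
  exact ENat.sum_lt_top.mpr fun _ _ =>
    Ring.ord_lt_top (mem_nonZeroDivisors_of_ne_zero ha)

variable (A) in
/-- The signed distance. -/
def dist {V : Type v} [AddCommGroup V] [Module A V] (M N : Submodule A V) : ℤ :=
  ((Module.length A (Sq M (M ⊓ N))).toNat : ℤ) - ((Module.length A (Sq N (M ⊓ N))).toNat : ℤ)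

theorem length_sq_map {W : Type v} {V : Type w} [AddCommGroup W] [Module A W] [AddCommGroup V] [Module A V]
    (f : W →ₗ[A] V) (hf : Function.Injective f) (Z P : Submodule A W) :
    Module.length A (Sq (Z.map f) (P.map f)) = Module.length A (Sq Z P) := by
  refine (LinearEquiv.length_eq (Submodule.Quotient.equiv _ _ (Submodule.equivMapOfInjective f hf Z) ?_)).symm
  refine Submodule.ext fun y => ?_
  simp only [Submodule.mem_map, Submodule.submoduleOf, Submodule.mem_comap, Submodule.coe_subtype]
  constructor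
  · rintro ⟨x, hx, rfl⟩
    exact ⟨x, hx, by simp⟩
  · rintro ⟨x, hx, hxy⟩
    obtain ⟨z, hz, hzy⟩ := y.2
    have : x = z := hf (hxy.trans hzy.symm)
    subst this
    exact ⟨⟨x, hz⟩, hx, Subtype.ext (by simpa using hxy)⟩

theorem length_sq_top {W : Type v} [AddCommGroup W] [Module A W] (P : Submodule A W) :
    Module.length A (Sq (⊤ : Submodule A W) P) = Module.length A (W ⧸ P) := by
  refine LinearEquiv.length_eq (Submodule.Quotient.equiv _ _ Submodule.topEquiv ?_)
  refine Submodule.ext fun y => ?_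
  simp only [Submodule.mem_map, Submodule.submoduleOf, Submodule.mem_comap, Submodule.coe_subtype]
  constructor
  · rintro ⟨x, hx, rfl⟩; exact hx
  · intro hy; exact ⟨⟨y, trivial⟩, hy, rfl⟩

variable [IsDomain A] [IsNoetherianRing A] [Ring.KrullDimLE 1 A]
variable (K : Type u) [Field K] [Algebra A K] [IsFractionRing A K]
variable {V : Type u} [AddCommGroup V] [Module K V] [Module A V] [IsScalarTower A K V]

omit [IsNoetherianRing A] [Ring.KrullDimLE 1 A] in
theorem exists_smul_le (M N : Submodule A V) [Submodule.IsLattice K M] [Submodule.IsLattice K N] :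
    ∃ a : A, a ≠ 0 ∧ ∀ x ∈ M, a • x ∈ N := by
  classical
  obtain ⟨S, hS⟩ := (Submodule.IsLattice.fg (A := K) : M.FG)
  have h : ∀ x : V, ∃ a : A, a ≠ 0 ∧ a • x ∈ N := by
    intro x
    have hx : x ∈ Submodule.span K (N : Set V) := by rw [Submodule.IsLattice.span_eq_top]; trivial
    induction hx using Submodule.span_induction with
    | mem y hy => exact ⟨1, one_ne_zero, by simpa using hy⟩
    | zero => exact ⟨1, one_ne_zero, by simp⟩
    | add y z _ _ hy hz =>
      obtain ⟨a, ha, hay⟩ := hy
      obtain ⟨b, hb, hbz⟩ := hz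
      refine ⟨a * b, mul_ne_zero ha hb, ?_⟩
      rw [smul_add]
      exact add_mem (by rw [mul_comm, mul_smul]; exact N.smul_mem _ hay) (by rw [mul_smul]; exact N.smul_mem _ hbz)
    | smul c y _ hy =>
      obtain ⟨a, ha, hay⟩ := hy
      obtain ⟨p, q, hq, rfl⟩ := IsFractionRing.div_surjective (A := A) c
      have hq0 : q ≠ 0 := nonZeroDivisors.ne_zero hq
      refine ⟨q * a, mul_ne_zero hq0 ha, ?_⟩
      have : (q * a) • (algebraMap A K p / algebraMap A K q) • y = p • a • y := by
        rw [← algebraMap_smul K (q * a), ← algebraMap_smul K p, ← algebraMap_smul K a, smul_smul, smul_smul, map_mul]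
        congr 1
        have : algebraMap A K q ≠ 0 := by simpa using hq0
        field_simp
      rw [this]
      exact N.smul_mem _ hay
  choose a ha hax using h
  refine ⟨∏ x ∈ S, a x, Finset.prod_ne_zero_iff.mpr fun x _ => ha x, fun x hx => ?_⟩
  rw [← hS] at hx
  induction hx using Submodule.span_induction with
  | mem y hy =>
    rw [← Finset.prod_erase_mul _ _ hy, mul_smul]
    exact N.smul_mem _ (hax y)
  | zero => simp
  | add y z _ _ hy hz => rw [smul_add]; exact add_mem hy hz
  | smul c y _ hy => rw [smul_comm]; exact N.smul_mem _ hy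

theorem length_sq_lt_top (M N : Submodule A V) [Submodule.IsLattice K M] [Submodule.IsLattice K N] :
    Module.length A (Sq M N) < ⊤ := by
  obtain ⟨a, ha, hax⟩ := exists_smul_le K M N
  haveI : Module.Finite A M := Module.Finite.iff_fg.mpr (Submodule.IsLattice.fg (A := K))
  refine isFiniteLength_of_smul_eq_zero ha fun q => ?_
  obtain ⟨x, rfl⟩ := Submodule.Quotient.mk_surjective _ q
  rw [← Submodule.Quotient.mk_smul, Submodule.Quotient.mk_eq_zero]
  exact hax x x.2

omit [Ring.KrullDimLE 1 A] in
theorem isLattice_inf (M N : Submodule A V) [Submodule.IsLattice K M] [Submodule.IsLattice K N] :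
    Submodule.IsLattice K (M ⊓ N) := by
  obtain ⟨a, ha, hax⟩ := exists_smul_le K M N
  haveI : Module.Finite A M := Module.Finite.iff_fg.mpr (Submodule.IsLattice.fg (A := K))
  haveI : IsNoetherian A ↥(M ⊓ N) := isNoetherian_of_le inf_le_left
  refine ⟨Module.Finite.iff_fg.mp inferInstance, eq_top_iff.mpr ?_⟩
  rw [← (Submodule.IsLattice.span_eq_top : Submodule.span K (M : Set V) = ⊤), Submodule.span_le]
  intro x hx
  have : x = (algebraMap A K a)⁻¹ • (a • x) := by
    rw [← algebraMap_smul K a x, inv_smul_smul₀ (by simpa using ha)]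
  rw [this]
  exact Submodule.smul_mem _ _ (Submodule.subset_span ⟨M.smul_mem a hx, hax x hx⟩)

variable [FiniteDimensional K V]

theorem dist_eq (M N L : Submodule A V) [Submodule.IsLattice K M] [Submodule.IsLattice K N]
    [Submodule.IsLattice K L] (hM : L ≤ M) (hN : L ≤ N) :
    dist A M N = ((Module.length A (Sq M L)).toNat : ℤ) - ((Module.length A (Sq N L)).toNat : ℤ) := by
  have := isLattice_inf K M N
  have e1 := length_sq_add (R := A) (Z := M) (C := M ⊓ N) (B := L) (le_inf hM hN) inf_le_left
  have e2 := length_sq_add (R := A) (Z := N) (C := M ⊓ N) (B := L) (le_inf hM hN) inf_le_right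
  have h0 := (length_sq_lt_top K (M ⊓ N) L).ne
  rw [e1, e2, ENat.toNat_add h0 (length_sq_lt_top K M (M ⊓ N)).ne,
    ENat.toNat_add h0 (length_sq_lt_top K N (M ⊓ N)).ne, dist]
  push_cast; ring

theorem dist_add (M₁ M₂ M₃ : Submodule A V) [Submodule.IsLattice K M₁] [Submodule.IsLattice K M₂]
    [Submodule.IsLattice K M₃] : dist A M₁ M₃ = dist A M₁ M₂ + dist A M₂ M₃ := by
  have h1 : M₁ ⊓ M₂ ⊓ M₃ ≤ M₁ := inf_le_left.trans inf_le_left
  have h2 : M₁ ⊓ M₂ ⊓ M₃ ≤ M₂ := inf_le_left.trans inf_le_right
  have h3 : M₁ ⊓ M₂ ⊓ M₃ ≤ M₃ := inf_le_right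
  have := isLattice_inf K M₁ M₂
  have := isLattice_inf K (M₁ ⊓ M₂) M₃
  rw [dist_eq K M₁ M₃ _ h1 h3, dist_eq K M₁ M₂ _ h1 h2, dist_eq K M₂ M₃ _ h2 h3]
  ring

omit [IsDomain A] [IsNoetherianRing A] [Ring.KrullDimLE 1 A] [IsFractionRing A K] [FiniteDimensional K V] in
theorem isLattice_map (φ : V ≃ₗ[K] V) (M : Submodule A V) [Submodule.IsLattice K M] :
    Submodule.IsLattice K (M.map (φ.toLinearMap.restrictScalars A)) := by
  refine ⟨(Submodule.IsLattice.fg (A := K) : M.FG).map _, ?_⟩
  rw [Submodule.map_coe, show ⇑(φ.toLinearMap.restrictScalars A) = ⇑φ.toLinearMap from rfl,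
    Submodule.span_image, Submodule.IsLattice.span_eq_top, Submodule.map_top, LinearEquiv.range]

theorem dist_map (φ : V ≃ₗ[K] V) (M : Submodule A V) [Submodule.IsLattice K M] :
    dist A M (M.map (φ.toLinearMap.restrictScalars A)) = CycAlg.ordFrac A K (LinearMap.det φ.toLinearMap) := by
  classical
  let φA := φ.toLinearMap.restrictScalars A
  have hφA : Function.Injective φA := φ.injective
  let b := Module.finBasis K V
  set n := Module.finrank K V
  let ι : (Fin n → A) →ₗ[A] V := Fintype.linearCombination A b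
  have hι : Function.Injective ι := by
    rw [injective_iff_map_eq_zero]
    intro x hx
    funext i
    have := Fintype.linearIndependent_iff.mp b.linearIndependent (fun j => algebraMap A K (x j)) (by
      simpa [ι, Fintype.linearCombination_apply, algebraMap_smul] using hx) i
    simpa using this
  let F := LinearMap.range ι
  have : Submodule.IsLattice K F := by
    refine ⟨Module.Finite.iff_fg.mp inferInstance, eq_top_iff.mpr ?_⟩
    rw [← b.span_eq, Submodule.span_le]
    rintro - ⟨i, rfl⟩
    exact Submodule.subset_span ⟨Pi.single i 1, by simp [ι]⟩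
  have := isLattice_map K φ M
  have := isLattice_map K φ F
  have hinv : dist A (F.map φA) (M.map φA) = dist A F M := by
    rw [dist, dist, ← Submodule.map_inf φA hφA, length_sq_map φA hφA, length_sq_map φA hφA]
  have key : dist A M (M.map φA) = dist A F (F.map φA) := by
    rw [dist_add K M F (M.map φA), dist_add K F (F.map φA) (M.map φA), hinv]
    have : dist A M F + dist A F M = 0 := by
      simp only [dist]; rw [inf_comm F M]; ring
    linarith
  rw [key]
  let Φ : Matrix (Fin n) (Fin n) K := LinearMap.toMatrix b b φ.toLinearMap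
  obtain ⟨s, hs⟩ := IsLocalization.exist_integer_multiples (nonZeroDivisors A) Finset.univ (fun p : Fin n × Fin n => Φ p.1 p.2)
  choose c hc using fun p : Fin n × Fin n => hs p (Finset.mem_univ p)
  let C : Matrix (Fin n) (Fin n) A := Matrix.of fun i j => c (i, j)
  have hs0 : (s : A) ≠ 0 := nonZeroDivisors.coe_ne_zero s
  have hCΦ : C.map (algebraMap A K) = algebraMap A K (s : A) • Φ := by
    ext i j
    simp only [C, Matrix.map_apply, Matrix.of_apply, Matrix.smul_apply, smul_eq_mul]
    rw [hc, Algebra.smul_def]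
  have hdetΦ : Φ.det = LinearMap.det φ.toLinearMap := LinearMap.det_toMatrix b φ.toLinearMap
  have hdet0 : LinearMap.det φ.toLinearMap ≠ 0 := (LinearEquiv.isUnit_det' φ).ne_zero
  have hdetC : algebraMap A K C.det = algebraMap A K (s : A) ^ n * LinearMap.det φ.toLinearMap := by
    rw [RingHom.map_det, RingHom.mapMatrix_apply, hCΦ, Matrix.det_smul, hdetΦ, Fintype.card_fin]
  have hs' : algebraMap A K (s : A) ≠ 0 := by simpa using hs0
  have hC0 : C.det ≠ 0 := fun h => by
    rw [h, map_zero] at hdetC
    exact mul_ne_zero (pow_ne_zero _ hs') hdet0 hdetC.symm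
  let S : Matrix (Fin n) (Fin n) A := Matrix.diagonal fun _ => (s : A)
  have hcomm : ι ∘ₗ C.mulVecLin = (φA ∘ₗ ι) ∘ₗ S.mulVecLin := by
    refine LinearMap.ext fun x => b.repr.injective (Finsupp.ext fun i => ?_)
    have hr : ∀ y : Fin n → A, ∀ j, b.repr (ι y) j = algebraMap A K (y j) := by
      intro y j
      rw [show ι y = ∑ k, algebraMap A K (y k) • b k by simp [ι, Fintype.linearCombination_apply, algebraMap_smul],
        b.repr_sum_self]
    have hφr : ∀ v : V, ∀ j, b.repr (φ v) j = (Φ *ᵥ (fun k => b.repr v k)) j := fun v j =>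
      (congrFun (LinearMap.toMatrix_mulVec_repr b b φ.toLinearMap v) j).symm
    simp only [LinearMap.comp_apply, Matrix.mulVecLin_apply, φA, LinearMap.coe_restrictScalars, LinearEquiv.coe_coe]
    rw [hφr, hr, RingHom.map_mulVec, hCΦ]
    simp only [Matrix.mulVec, dotProduct, Matrix.smul_apply, smul_eq_mul, hr, S, Function.comp_apply]
    refine Finset.sum_congr rfl fun k _ => ?_
    rw [show (∑ l, Matrix.diagonal (fun _ : Fin n => (s : A)) k l * x l) = (s : A) * x k by
      simp [Matrix.diagonal_apply, Finset.sum_ite_eq], map_mul]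
    ring
  let L := (LinearMap.range C.mulVecLin).map ι
  have hL : L = (LinearMap.range S.mulVecLin).map (φA ∘ₗ ι) := by
    simp only [L, ← LinearMap.range_comp, hcomm]
  have hF : F = (⊤ : Submodule A (Fin n → A)).map ι := LinearMap.range_eq_map ι
  have hφF : F.map φA = (⊤ : Submodule A (Fin n → A)).map (φA ∘ₗ ι) := by rw [Submodule.map_comp, ← hF]
  have hSdet : S.det = (s : A) ^ n := by simp [S, Matrix.det_diagonal]
  have hLlat : Submodule.IsLattice K L := by
    refine ⟨(Module.Finite.iff_fg.mp inferInstance : (LinearMap.range C.mulVecLin).FG).map _, eq_top_iff.mpr ?_⟩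
    rw [← (Submodule.IsLattice.span_eq_top : Submodule.span K (F : Set V) = ⊤), Submodule.span_le]
    rintro - ⟨x, rfl⟩
    have hmem : ι (C.det • x) ∈ L := ⟨_, det_smul_mem C x, rfl⟩
    have : ι x = (algebraMap A K C.det)⁻¹ • ι (C.det • x) := by
      rw [map_smul, ← algebraMap_smul K C.det (ι x), inv_smul_smul₀ (by simpa using hC0)]
    rw [this]
    exact Submodule.smul_mem _ _ (Submodule.subset_span hmem)
  rw [dist_eq K F (F.map φA) L (Submodule.map_le_iff_le_comap.mpr fun x _ => ⟨x, rfl⟩)
    (by rw [hL, hφF]; exact Submodule.map_mono le_top)]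
  have l1 : Module.length A (Sq F L) = Ring.ord A C.det := by
    rw [hF, length_sq_map ι hι, length_sq_top]
    exact cokLen_eq_ord C (mem_nonZeroDivisors_of_ne_zero hC0)
  have l2 : Module.length A (Sq (F.map φA) L) = Ring.ord A ((s : A) ^ n) := by
    rw [hL, hφF, length_sq_map (φA ∘ₗ ι) (hφA.comp hι), length_sq_top, ← hSdet]
    exact cokLen_eq_ord S (mem_nonZeroDivisors_of_ne_zero (by rw [hSdet]; exact pow_ne_zero _ hs0))
  rw [l1, l2]
  have := congrArg (CycAlg.ordFrac A K) hdetC
  rw [← map_pow, ordFrac_algebraMap K hC0, ordFrac_mul K (by simpa using pow_ne_zero n hs0) hdet0,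
    ordFrac_algebraMap K (pow_ne_zero n hs0)] at this
  linarith

end Groth.Agent.DetLen
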